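/- Peterfalvi Part II, Chapter I: proved in `BS/Ch1a`, `Ch1b`, `Ch1c` (Prop. I.3.2 is in `BS/Ch1d`). -/
import Cfsg.Agent.BS.Ch1c
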