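/- I.3 Proposition 2: proved in `BS/Ch1d`. -/
import Cfsg.Agent.BS.Ch1d
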