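/- Spec of Peterfalvi Part II, Chapter II (owner helper5): proved. -/
import Cfsg.Agent.BS.Ch2
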