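/- Identification of `L₂(q)` and `Sz(q)` (owner helper9): proved in `BS/Models*.lean`. -/
import Cfsg.Agent.BS.ModelsSz
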