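/- The model side of the identification of `U₃(q)` (owner helper9): proved in `BS/ModelsU3.lean`. -/
import Cfsg.Agent.BS.ModelsU3
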