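/- Peterfalvi Part II, I.3 Lemma 5, III.3, IV: proved in `BS/U3.lean` (owner helper7). -/
import Cfsg.Agent.BS.U3
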