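/- Bender reduction, piece P1 (basics, (S), double transitivity): proved in `BS/Ben/P1*.lean`. -/
import Cfsg.Agent.BS.Ben.P1
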