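/- Bender reduction, piece P2 (local structure from induction, transfer): proved in `BS/Ben/P2a`, `P2b`. -/
import Cfsg.Agent.BS.Ben.P2b
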