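/- Bender reduction, piece P5 (Lemma H): `Cfsg.Agent.BS.lemmaH` is proved in BS/Ben/LHa-e. -/
import Cfsg.Agent.BS.Ben.LHe
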