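/- Bender reduction, piece P4 (character argument): proved in BS/Ben/P4. -/
import Cfsg.Agent.BS.Ben.P4
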