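/- Bender reduction, P6: shared lemmas L1, L2, ZJ: proved in BS/Ben/P6L.lean. -/
import Cfsg.Agent.BS.Ben.P6L
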