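/- Bender reduction, P6: Case A and (C): proved in `BS/Ben/P6A*.lean`. -/
import Cfsg.Agent.BS.Ben.P6A
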