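/- Bender reduction, piece P6 (T4b): proved in BS/Ben/P6B2.lean (Case A in S/Ben6A). -/
import Cfsg.Agent.BS.Ben.P6B2
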