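/- Bender's theorem (piece P0: reduction to simple groups and assembly): proved in `BS/Ben/P0.lean`. -/
import Cfsg.Agent.BS.Ben.P0
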