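/- III.1 Proposition and Theorem A: proved in BS/Suzuki.lean. -/
import Cfsg.Agent.BS.Suzuki
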