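/- Theorem ZD, piece Z0 (basics): proved in `BS/ZD/Z0a.lean`, `BS/ZD/Z0b.lean`. -/
import Cfsg.Agent.BS.ZD.Z0b
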