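/- Theorem ZD, piece ZL (local subgroups of Bender type): proved in `BS/ZD/La,Lb,Lc`. -/
import Cfsg.Agent.BS.ZD.Lc
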