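/- Theorem ZD, piece ZA (Lemma VB, T4b Case A and (C), double transitivity).  See notes/zd.md.
`ZC.half`, `Min.toT2`, `T2.modEq` are in `ZD/ZDA1`, `Min.caseA` in `ZD/ZDA3`. -/
import Cfsg.Agent.BS.ZD.ZDA3
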