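/- Theorem ZD, piece ZE, first half (el, exists_UD, count, card_mul, b1): proved in `BS/ZD/E1,E2,E3`. -/
import Cfsg.Agent.BS.ZD.E3
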