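/- Theorem ZD, piece ZE (counting, the final configuration): `ZD/E5a`, `E5b`, `E6`.  See notes/zd.md. -/
import Cfsg.Agent.BS.ZD.E6
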