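/- Theorem ZD, piece ZC (the case `c = 1`: lines).  See notes/zd.md.  Proved in `BS/ZD/Ca, Cb, Cc`.
`ℓ = {c | w • c = c}`, `H = G_a`, `D = G_{a, t a}`, `W = C_D(E)`, `C = C_H(E)`. -/
import Cfsg.Agent.BS.ZD.Cc
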