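/- Theorem ZD, piece Z1 (the case `i = 1`): `BS/ZD/Z1a,b,d,z`, sub-pieces in `S/ZD1a`. -/
import Cfsg.Agent.BS.ZD.Z1z
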