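/- Theorem ZD, piece Z2 (the case `i = 2`): `One.not_two` is in `ZD/Z2`.  See notes/zd.md. -/
import Cfsg.Agent.BS.ZD.Z2
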