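/- Theorem ZD, piece Z3 (the case `i = 3`): proved in `BS/ZD/T3a,T3b,T3n,T3c`. -/
import Cfsg.Agent.BS.ZD.T3c
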