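/- Theorem ZD, piece ZB (T4b Case B and assembly of T4b): proved in `BS/ZD/B1`. -/
import Cfsg.Agent.BS.ZD.B1
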