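/- Theorem ZD (reduction to simple groups and assembly): proved in `BS/ZD/Fin.lean`
(`zd`, `zd_se`, `zds : ZDs X`, `zdf : ZApp.ZDF`). -/
import Cfsg.Agent.BS.ZD.Fin
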